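import Cfsg.Agent.AltInvolCent.Fusion
import Cfsg.Agent.Pyramidal.Basics

/-!
# Local structure from a double cover centralizer of degree below sixteen: one class of involutions
-/

set_option autoImplicit false
set_option linter.unusedSectionVars false

namespace CfsgLib.AltInvolCent

open Equiv Equiv.Perm

namespace Setup

variable {G : Type*} [Group G] {n : ℕ} (S : Setup G n)

/-- An involution of the centralizer other than `z` moves eight points. -/
theorem support_eight (hn : n < 16) {t : G} (ht : Commute t S.z) (ht2 : t * t = 1) (h1 : t ≠ 1)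
    (hne : t ≠ S.z) : S.p t * S.p t = 1 ∧ (S.p t).support.card = 8 := by
  obtain ⟨hs, m, hm, ⟨k, rfl⟩, hc⟩ := S.invol_support ht ht2 h1 hne
  refine ⟨hs, ?_⟩
  have h := Finset.card_le_univ (S.p t).support
  rw [Fintype.card_fin] at h
  omega

/-- The involutions of the centralizer other than `z` form one class there. -/
theorem conj_in_cent (hn : n < 16) {a b : G} (ha : Commute a S.z) (hb : Commute b S.z) (ha2 : a * a = 1)
    (hb2 : b * b = 1) (ha1 : a ≠ 1) (hb1 : b ≠ 1) (haz : a ≠ S.z) (hbz : b ≠ S.z) :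
    ∃ c, Commute c S.z ∧ c * a * c⁻¹ = b := by
  obtain ⟨hpa, hca⟩ := S.support_eight hn ha ha2 ha1 haz
  obtain ⟨hpb, hcb⟩ := S.support_eight hn hb hb2 hb1 hbz
  exact S.exists_conj_invol ha hb hpa hpb (m := 2) (by omega) (hca.trans (by norm_num))
    (hcb.trans (by norm_num))

variable [Finite G] [IsSimpleGroup G]

/-- Every involution of the centralizer is conjugate to `z`. -/
theorem isConj_of_commute (hn : n < 16) {t : G} (ht : Commute t S.z) (ht2 : t * t = 1) (h1 : t ≠ 1) :
    IsConj S.z t := by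
  rcases eq_or_ne t S.z with rfl | hne
  · exact IsConj.refl _
  obtain ⟨g, h, hne'⟩ := S.exists_fused
  obtain ⟨c, -, hc⟩ := S.conj_in_cent hn h ht (S.conj_sq g) ht2 (S.conj_ne_one g) h1 hne' hne
  exact (isConj_iff.2 ⟨g, rfl⟩ : IsConj S.z (g * S.z * g⁻¹)).trans (isConj_iff.2 ⟨c, hc⟩)

/-- `G` has one class of involutions. -/
theorem isConj_invol (hn : n < 16) {u : G} (hu2 : u * u = 1) (hu1 : u ≠ 1) : IsConj S.z u := by
  by_contra hnc
  obtain ⟨w, hw1, hw2, hzw, huw⟩ := Pyramidal.exists_commuting_involution S.z_sq hu2 hnc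
  obtain ⟨g, hg⟩ := isConj_iff.1 (S.isConj_of_commute hn (t := w) hzw.symm hw2 hw1)
  refine hnc ((S.isConj_of_commute hn (t := g⁻¹ * u * g) ?_ ?_ ?_).trans (isConj_iff.2 ⟨g, ?_⟩))
  · have h : Commute (g⁻¹ * u * g⁻¹⁻¹) (g⁻¹ * w * g⁻¹⁻¹) := (Commute.conj_iff g⁻¹).2 huw
    rwa [inv_inv, ← hg, show g⁻¹ * (g * S.z * g⁻¹) * g = S.z by group] at h
  · rw [show g⁻¹ * u * g * (g⁻¹ * u * g) = g⁻¹ * (u * u) * g by group, hu2, mul_one, inv_mul_cancel]
  · intro h
    refine hu1 ?_
    calc u = g * (g⁻¹ * u * g) * g⁻¹ := by group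
      _ = 1 := by rw [h, mul_one, mul_inv_cancel]
  · group

/-- The centralizer of any involution is conjugate to the centralizer of `z`. -/
theorem exists_conj_commute_iff (hn : n < 16) {u : G} (hu2 : u * u = 1) (hu1 : u ≠ 1) :
    ∃ g, g * S.z * g⁻¹ = u ∧ ∀ a, Commute a S.z ↔ Commute (g * a * g⁻¹) u := by
  obtain ⟨g, rfl⟩ := isConj_iff.1 (S.isConj_invol hn hu2 hu1)
  exact ⟨g, rfl, fun a => (Commute.conj_iff g).symm⟩

end Setup

end CfsgLib.AltInvolCent
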