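import Cfsg.Agent.LyLocal.Classes

/-!
# Degree eleven: `z` is fused inside the centralizer of a three-cycle

If `s` is an involution of `C(z)` and `x` has order three with its three moved points fixed by `s`, then
`⟨x⟩` is the only subgroup of order three normalized by `C(z, s)`. A rotation of `z`, `s`, `s z` therefore
normalizes it.
-/

set_option autoImplicit false
set_option linter.unusedSectionVars false

namespace CfsgLib.AltInvolCent

open Equiv Equiv.Perm

variable {α : Type*} [Fintype α] [DecidableEq α]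

theorem perm_apply_inv (τ : Perm α) (a : α) : τ (τ⁻¹ a) = a := τ.apply_symm_apply a

theorem perm_inv_apply (τ : Perm α) (a : α) : τ⁻¹ (τ a) = a := τ.symm_apply_apply a

theorem apply_ne_inv_apply {τ : Perm α} (h3 : τ ^ 3 = 1) {a : α} (ha : τ a ≠ a) : τ a ≠ τ⁻¹ a := by
  intro h
  have h2 : τ (τ a) = a := by rw [h, perm_apply_inv]
  refine ha ?_
  calc τ a = τ (τ (τ a)) := by rw [h2]
    _ = (τ ^ 3) a := by simp [pow_succ, Perm.mul_apply]
    _ = a := by rw [h3, Perm.one_apply]

/-- An element of order three normalized by the centralizer of `σ` fixes the points moved by `σ`, provided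
`σ` moves more than four points. -/
theorem fixed_of_normalized {σ τ : Perm α} (hσ : σ * σ = 1) (h4 : 4 < σ.support.card) (h3 : τ ^ 3 = 1)
    (hτσ : τ * σ = σ * τ)
    (hn : ∀ a b : α, σ a ≠ a → σ b ≠ b → b ≠ a → b ≠ σ a →
      let c := swap a (σ a) * swap b (σ b)
      c * τ * c⁻¹ = τ ∨ c * τ * c⁻¹ = τ⁻¹)
    {a : α} (ha : σ a ≠ a) : τ a = a := by
  have inv := apply_apply_of_invol hσ
  have comm : ∀ x, τ (σ x) = σ (τ x) := fun x => Equiv.congr_fun hτσ x
  by_contra hta
  have htsa : τ a ≠ σ a := by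
    intro h
    have h2 : τ (τ a) = a := by rw [h, comm, h, inv]
    exact apply_ne_inv_apply h3 hta (by
      conv_rhs => rw [← h2]
      rw [perm_inv_apply])
  obtain ⟨b, hb, hb'⟩ : ∃ b ∈ σ.support, b ∉ ({a, σ a, τ a, σ (τ a)} : Finset α) := by
    by_contra h
    push Not at h
    have := (Finset.card_le_card h).trans Finset.card_le_four
    omega
  rw [mem_support] at hb
  simp only [Finset.mem_insert, Finset.mem_singleton, not_or] at hb'
  obtain ⟨b1, b2, b3, b4⟩ := hb'
  have b5 : σ b ≠ a := fun e => b2 (by rw [← e, inv])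
  have b6 : σ b ≠ σ a := fun e => b1 (σ.injective e)
  set c : Perm α := swap a (σ a) * swap b (σ b) with hc
  have e1 : (c * τ * c⁻¹) a = σ (τ a) := by
    have ca : c⁻¹ a = σ a := by
      rw [inv_eq_iff_eq, hc, Perm.mul_apply, swap_apply_of_ne_of_ne (Ne.symm b2) (Ne.symm b6), swap_apply_right]
    rw [Perm.mul_apply, Perm.mul_apply, ca, comm, hc, Perm.mul_apply,
      swap_apply_of_ne_of_ne (Ne.symm b4) (fun e => b3 (σ.injective e.symm)),
      swap_apply_of_ne_of_ne (fun e => htsa (by rw [← inv (τ a), e])) (fun e => hta (σ.injective e))]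
  rcases hn a b ha hb b1 b2 with h | h
  · rw [h] at e1
    exact ha (τ.injective (by rw [comm, ← e1]))
  · rw [h] at e1
    have h2 : τ (τ a) = σ a := by
      have := congrArg τ e1
      rw [perm_apply_inv, comm] at this
      exact ((congrArg σ this).trans (inv _)).symm
    refine htsa ?_
    have h5 : τ (σ a) = a := by rw [← h2]; exact Equiv.congr_fun h3 a |>.trans rfl
    rw [comm] at h5
    rw [← inv (τ a), h5]

/-- Elements of order three moving the same three points generate the same subgroup. -/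
theorem eq_or_inv_of_three {τ τ' : Perm α} (h3 : τ ^ 3 = 1) (h3' : τ' ^ 3 = 1) (hne : τ ≠ 1) (hne' : τ' ≠ 1)
    {F : Finset α} (hF : F.card ≤ 3) (h : τ.support ⊆ F) (h' : τ'.support ⊆ F) : τ' = τ ∨ τ' = τ⁻¹ := by
  obtain ⟨a, ha⟩ : ∃ a, τ a ≠ a := by
    by_contra hc
    push Not at hc
    exact hne (Equiv.ext hc)
  have hrev := apply_ne_inv_apply h3 ha
  have hi : τ⁻¹ a ≠ a := fun e => ha (by conv_lhs => rw [← e, perm_apply_inv])
  have e3 : τ (τ a) = τ⁻¹ a := by
    rw [eq_inv_iff_eq]
    have := Equiv.congr_fun h3 a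
    simpa [pow_succ, Perm.mul_apply] using this
  set T : Finset α := {a, τ a, τ⁻¹ a} with hT
  have hcard : T.card = 3 := by
    rw [hT, Finset.card_insert_of_notMem (by simp only [Finset.mem_insert, Finset.mem_singleton, not_or]; exact
      ⟨Ne.symm ha, Ne.symm hi⟩), Finset.card_pair hrev]
  have hTs : T ⊆ τ.support := by
    intro x hx
    rw [hT] at hx
    simp only [Finset.mem_insert, Finset.mem_singleton] at hx
    rw [mem_support]
    rcases hx with rfl | rfl | rfl
    · exact ha
    · exact fun e => ha (τ.injective e)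
    · rw [perm_apply_inv]; exact Ne.symm hi
  have hTF : T = F := Finset.eq_of_subset_of_card_le (hTs.trans h) (by omega)
  have hs' : τ'.support = T := by
    refine Finset.eq_of_subset_of_card_le (hTF ▸ h') ?_
    rw [hcard]
    rcases Nat.lt_or_ge τ'.support.card 3 with hlt | hge
    · exfalso
      have h2 : τ'.support.card ≠ 1 := card_support_ne_one τ'
      have h0 : τ'.support.card ≠ 0 := fun e => hne' (support_eq_empty_iff.1 (Finset.card_eq_zero.1 e))
      obtain ⟨x, y, hxy, hsw⟩ := card_support_eq_two.1 (show τ'.support.card = 2 by omega)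
      rw [hsw, pow_succ, sq, swap_mul_self, one_mul] at h3'
      exact hxy (swap_eq_one_iff.1 h3')
    · exact hge
  have mem : ∀ {x}, x = a ∨ x = τ a ∨ x = τ⁻¹ a → τ' x ≠ x ∧ (τ' x = a ∨ τ' x = τ a ∨ τ' x = τ⁻¹ a) := by
    intro x hx
    have hxT : x ∈ τ'.support := by rw [hs', hT]; simpa using hx
    refine ⟨mem_support.1 hxT, ?_⟩
    have := apply_mem_support.2 hxT
    rw [hs', hT] at this
    simpa using this
  have out : ∀ {x}, ¬ (x = a ∨ x = τ a ∨ x = τ⁻¹ a) → τ' x = x ∧ τ x = x := by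
    intro x hx
    have hxT : x ∉ T := by rw [hT]; simpa using hx
    exact ⟨notMem_support.1 (hs' ▸ hxT), notMem_support.1 fun hm => hxT (hTF ▸ h hm)⟩
  have e4 : τ (τ⁻¹ a) = a := perm_apply_inv τ a
  have e5 : τ⁻¹ (τ a) = a := perm_inv_apply τ a
  have e6 : τ⁻¹ (τ⁻¹ a) = τ a := by rw [inv_eq_iff_eq, e3]
  obtain ⟨q0, r0⟩ := mem (x := a) (Or.inl rfl)
  obtain ⟨q1, r1⟩ := mem (x := τ a) (Or.inr (Or.inl rfl))
  obtain ⟨q2, r2⟩ := mem (x := τ⁻¹ a) (Or.inr (Or.inr rfl))
  have inj := τ'.injective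
  rcases r0.resolve_left q0 with p0 | p0
  · left
    have p1 : τ' (τ a) = τ⁻¹ a := by
      rcases r1 with r | r | r
      · exfalso
        rcases r2 with s | s | s
        · exact hrev (inj (r.trans s.symm))
        · exact hi (inj (s.trans p0.symm))
        · exact q2 s
      · exact absurd r q1
      · exact r
    have p2 : τ' (τ⁻¹ a) = a := by
      rcases r2 with s | s | s
      · exact s
      · exact absurd (inj (s.trans p0.symm)) hi
      · exact absurd s q2
    refine Equiv.ext fun x => ?_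
    by_cases hx : x = a ∨ x = τ a ∨ x = τ⁻¹ a
    · rcases hx with rfl | rfl | rfl
      · exact p0
      · rw [p1, e3]
      · rw [p2, e4]
    · rw [(out hx).1, (out hx).2]
  · right
    have p1 : τ' (τ a) = a := by
      rcases r1 with r | r | r
      · exact r
      · exact absurd r q1
      · exact absurd (inj (r.trans p0.symm)) ha
    have p2 : τ' (τ⁻¹ a) = τ a := by
      rcases r2 with s | s | s
      · exact absurd (inj (s.trans p1.symm)) (Ne.symm hrev)
      · exact s
      · exact absurd s q2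
    refine Equiv.ext fun x => ?_
    by_cases hx : x = a ∨ x = τ a ∨ x = τ⁻¹ a
    · rcases hx with rfl | rfl | rfl
      · exact p0
      · rw [p1, e5]
      · rw [p2, e6]
    · rw [(out hx).1]
      exact (inv_eq_iff_eq.2 (out hx).2.symm).symm

namespace Setup

variable {G : Type*} [Group G] (S : Setup G 11) [Finite G] [IsSimpleGroup G]

/-- `z` is conjugate to `s` or `s z` inside the centralizer of an element of order three on the fixed points
of `s`. -/
theorem exists_fused_in_three {s x : G} (hs : Commute s S.z) (hs2 : s * s = 1) (hs1 : s ≠ 1) (hsz : s ≠ S.z)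
    (hx : Commute x S.z) (hx3 : x ^ 3 = 1) (hx1 : x ≠ 1)
    (hfix : ∀ i, S.p s i ≠ i → S.p x i = i) :
    Commute x s ∧ ∃ g, Commute g x ∧ (g * S.z * g⁻¹ = s ∨ g * S.z * g⁻¹ = s * S.z) := by
  set σ := S.p s with hσdef
  obtain ⟨hσ, hc8⟩ := S.support_eight (by norm_num) hs hs2 hs1 hsz
  have hodd : Odd 3 := by decide
  have hp3 : S.p x ^ 3 = 1 := by rw [← S.p_pow hx, hx3, S.p_one]
  have hpx : S.p x ≠ 1 := fun h => hx1 (S.eq_one_of_odd hx hodd hx3 h)
  set F : Finset (Fin 11) := σ.supportᶜ with hF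
  have hFc : F.card ≤ 3 := by rw [hF, Finset.card_compl, Fintype.card_fin, hc8]
  have hsub : (S.p x).support ⊆ F := fun i hi => by
    rw [hF, Finset.mem_compl, mem_support]
    exact fun h => mem_support.1 hi (hfix i h)
  have hpcomm : S.p x * σ = σ * S.p x := (Equiv.Perm.Disjoint.commute (fun i => by
    by_cases h : σ i = i
    · exact Or.inr h
    · exact Or.inl (hfix i h))).eq
  have hxs : Commute x s := S.commute_of_odd hx hs hodd hx3 hpcomm
  refine ⟨hxs, ?_⟩
  have norm : ∀ d, Commute d S.z → Commute d s → d * x * d⁻¹ = x ∨ d * x * d⁻¹ = x⁻¹ := by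
    intro d hd hds
    have hdσ : S.p d * σ = σ * S.p d := by
      rw [hσdef, ← S.p_mul hd hs, ← S.p_mul hs hd, hds.eq]
    have hy := S.comm_conj hd hx
    have hy3 : (d * x * d⁻¹) ^ 3 = 1 := by rw [conj_pow, hx3, mul_one, mul_inv_cancel]
    have hpy : S.p (d * x * d⁻¹) = S.p d * S.p x * (S.p d)⁻¹ := S.p_conj hd hx
    rcases eq_or_inv_of_three hp3 (by rw [hpy, conj_pow, hp3, mul_one, mul_inv_cancel] :
        S.p (d * x * d⁻¹) ^ 3 = 1) hpx (by rw [hpy]; exact fun h => hpx (conj_eq_one_iff.1 h)) hFc hsub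
      (fun i hi => by
        rw [hF, Finset.mem_compl, mem_support]
        intro h
        refine mem_support.1 hi ?_
        rw [hpy, Perm.mul_apply, Perm.mul_apply]
        set j := (S.p d)⁻¹ i with hj
        have hij : S.p d j = i := perm_apply_inv _ _
        have : σ j ≠ j := fun e => h (by
          rw [← hij, ← Perm.mul_apply, ← hdσ, Perm.mul_apply, e])
        rw [hfix j this, hij]) with h | h
    · exact Or.inl (S.odd_lift_unique hy hx hodd hy3 hx3 h)
    · exact Or.inr (S.odd_lift_unique hy hx.inv_left hodd hy3 (by rw [inv_pow, hx3, inv_one])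
        (by rw [h, S.p_inv hx]))
  -- a rotation of `z`, `s`, `s z`
  obtain ⟨g, hg, hne⟩ := S.exists_fused
  obtain ⟨hg', hne'⟩ := S.inv_fused hg hne
  obtain ⟨-, c8⟩ := S.support_eight (by norm_num) hg (S.conj_sq g) (S.conj_ne_one g) hne
  obtain ⟨-, c8'⟩ := S.support_eight (by norm_num) hg' (S.conj_sq g⁻¹) (S.conj_ne_one g⁻¹) hne'
  obtain ⟨r, r1, r2, r3⟩ := S.exists_rot hg hne (m := 2) (by omega) (c8.trans (by norm_num))
    (c8'.trans (by norm_num)) hs hσ (hc8.trans (by norm_num))
  have conjc : ∀ {u v : G}, Commute u v → Commute (r * u * r⁻¹) (r * v * r⁻¹) :=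
    fun h => (Commute.conj_iff r).2 h
  set y := r * x * r⁻¹ with hy
  have hyz : Commute y S.z := by rw [← r3]; exact conjc (hxs.mul_right hx)
  have hys : Commute y s := by rw [← r1]; exact conjc hx
  have hy3 : y ^ 3 = 1 := by rw [hy, conj_pow, hx3, mul_one, mul_inv_cancel]
  have hpy3 : S.p y ^ 3 = 1 := by rw [← S.p_pow hyz, hy3, S.p_one]
  have hy1 : y ≠ 1 := fun h => hx1 (conj_eq_one_iff.1 h)
  have hyσ : S.p y * σ = σ * S.p y := by rw [hσdef, ← S.p_mul hyz hs, ← S.p_mul hs hyz, hys.eq]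
  have ynorm : ∀ a b, σ a ≠ a → σ b ≠ b → b ≠ a → b ≠ σ a →
      let c := swap a (σ a) * swap b (σ b)
      c * S.p y * c⁻¹ = S.p y ∨ c * S.p y * c⁻¹ = (S.p y)⁻¹ := by
    intro a b ha hb hba hbsa
    have inv := apply_apply_of_invol hσ
    have b5 : σ b ≠ a := fun e => hbsa (by rw [← e, inv])
    have b6 : σ b ≠ σ a := fun e => hba (σ.injective e)
    have hnd : [a, σ a, b, σ b].Nodup := by
      simp [Ne.symm ha, Ne.symm hba, Ne.symm hbsa, Ne.symm b5, Ne.symm b6, Ne.symm hb]
    obtain ⟨d, hd, hpd⟩ := S.lift _ (mem_alternatingGroup.1 (AltDoubleCoverInvol.dt_mem hnd))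
    have hfour : ∀ i, (i = a ∨ i = σ a ∨ i = b ∨ i = σ b) → S.p (d⁻¹ * s) i = i := by
      intro i hi
      rw [S.p_mul hd.inv_left hs, S.p_inv hd, Perm.mul_apply, inv_eq_iff_eq, hpd, ← hσdef, Perm.mul_apply]
      rcases hi with rfl | rfl | rfl | rfl
      · rw [swap_apply_of_ne_of_ne (Ne.symm hbsa) (Ne.symm b6) |>.symm]
        rw [swap_apply_of_ne_of_ne (Ne.symm hba) (Ne.symm b5), swap_apply_left]
      · rw [inv, swap_apply_of_ne_of_ne (Ne.symm hbsa) (Ne.symm b6), swap_apply_right]
      · rw [swap_apply_left, swap_apply_of_ne_of_ne b5 b6]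
      · rw [inv, swap_apply_right, swap_apply_of_ne_of_ne hba hbsa]
    have hc := S.comm_dt (i := a) (j := b) (k := σ a) (l := σ b) hd (hd.inv_left.mul_left hs) hpd
      (hfour _ (Or.inl rfl)) (hfour _ (Or.inr (Or.inr (Or.inl rfl)))) (hfour _ (Or.inr (Or.inl rfl)))
      (hfour _ (Or.inr (Or.inr (Or.inr rfl))))
    have hds : Commute d s := by
      have h := hc.eq
      rw [mul_inv_cancel_left] at h
      have h' : d * s = d * (d⁻¹ * s * d) := by rw [← h]
      rw [mul_assoc d⁻¹, mul_inv_cancel_left] at h'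
      exact h'
    have e1 : Commute (r⁻¹ * d * r⁻¹⁻¹) S.z := by
      have h := (Commute.conj_iff r⁻¹).2 hds
      rwa [← r1, show r⁻¹ * (r * S.z * r⁻¹) * r⁻¹⁻¹ = S.z by group] at h
    have e2 : Commute (r⁻¹ * d * r⁻¹⁻¹) s := by
      have h := (Commute.conj_iff r⁻¹).2 (hds.mul_right hd)
      rwa [← r2, show r⁻¹ * (r * s * r⁻¹) * r⁻¹⁻¹ = s by group] at h
    show (swap a (σ a) * swap b (σ b)) * S.p y * (swap a (σ a) * swap b (σ b))⁻¹ = S.p y ∨ _
    rw [← hpd, ← S.p_conj hd hyz]
    rcases norm _ e1 e2 with h | h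
    · left
      rw [hy, show d * (r * x * r⁻¹) * d⁻¹ =
        r * ((r⁻¹ * d * r⁻¹⁻¹) * x * (r⁻¹ * d * r⁻¹⁻¹)⁻¹) * r⁻¹ by group, h]
    · right
      rw [← S.p_inv hyz, hy, show d * (r * x * r⁻¹) * d⁻¹ =
        r * ((r⁻¹ * d * r⁻¹⁻¹) * x * (r⁻¹ * d * r⁻¹⁻¹)⁻¹) * r⁻¹ by group, h]
      exact congrArg S.p (by group)
  have hsuby : (S.p y).support ⊆ F := fun i hi => by
    rw [hF, Finset.mem_compl, mem_support]
    exact fun h => mem_support.1 hi (fixed_of_normalized hσ (by rw [hc8]; omega) hpy3 hyσ ynorm h)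
  rcases eq_or_inv_of_three hp3 hpy3 hpx (fun h => hy1 (S.eq_one_of_odd hyz hodd hy3 h)) hFc hsub hsuby
    with h | h
  · have hyx : y = x := S.odd_lift_unique hyz hx hodd hy3 hx3 h
    exact ⟨r, mul_inv_eq_iff_eq_mul.1 hyx, Or.inl r1⟩
  · have hyx : y = x⁻¹ := S.odd_lift_unique hyz hx.inv_left hodd hy3 (by rw [inv_pow, hx3, inv_one])
      (by rw [h, S.p_inv hx])
    -- compose with an element inverting `x`
    obtain ⟨f, hf⟩ : ∃ f, S.p x f ≠ f := by
      by_contra hc
      push Not at hc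
      exact hpx (Equiv.ext hc)
    have hff := apply_ne_inv_apply hp3 hf
    obtain ⟨a, ha⟩ : σ.support.Nonempty := Finset.card_pos.1 (by rw [hσdef, hc8]; omega)
    rw [mem_support] at ha
    set i := S.p x f with hi
    set j := (S.p x)⁻¹ f with hj
    have hjf : j ≠ f := fun e => hf (by rw [hi]; conv_lhs => rw [← e, hj, perm_apply_inv])
    have hfi : σ i = i := by
      by_contra hc
      have h1 := hfix i hc
      exact hf ((S.p x).injective h1)
    have hfj : σ j = j := by
      by_contra hc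
      have h1 := hfix j hc
      rw [hj, perm_apply_inv] at h1
      exact hjf h1.symm
    have inv := apply_apply_of_invol hσ
    have n1 : i ≠ a := fun e => ha (e ▸ hfi)
    have n3 : j ≠ a := fun e => ha (e ▸ hfj)
    have n2 : i ≠ σ a := fun e => ha (by rw [e, inv] at hfi; exact hfi.symm)
    have n4 : j ≠ σ a := fun e => ha (by rw [e, inv] at hfj; exact hfj.symm)
    have hnd : [i, j, a, σ a].Nodup := by simp [hff, n1, n2, n3, n4, Ne.symm ha]
    obtain ⟨e, he, hpe⟩ := S.lift _ (mem_alternatingGroup.1 (AltDoubleCoverInvol.dt_mem hnd))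
    have hes : e * s * e⁻¹ = s ∨ e * s * e⁻¹ = s * S.z := by
      refine S.eq_or (S.comm_conj he hs) hs ?_
      rw [S.p_conj he hs, ← hσdef, mul_inv_eq_iff_eq_mul]
      have k1 : σ * swap i j * σ⁻¹ = swap i j := by rw [← Equiv.swap_apply_apply, hfi, hfj]
      have k2 : σ * swap a (σ a) * σ⁻¹ = swap a (σ a) := by
        rw [← Equiv.swap_apply_apply, inv, swap_comm]
      have k : σ * S.p e * σ⁻¹ = S.p e := by
        rw [hpe, show σ * (swap i j * swap a (σ a)) * σ⁻¹ = (σ * swap i j * σ⁻¹) * (σ * swap a (σ a) * σ⁻¹) by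
          group, k1, k2]
      exact (mul_inv_eq_iff_eq_mul.1 k).symm
    have hfσ : σ f = f := by
      by_contra hc
      exact hf (hfix f hc)
    have hef : S.p e f = f := by
      have g1 : f ≠ a := by rintro rfl; exact ha hfσ
      have g2 : f ≠ σ a := by rintro rfl; exact ha (σ.injective hfσ)
      rw [hpe, Perm.mul_apply, swap_apply_of_ne_of_ne g1 g2,
        swap_apply_of_ne_of_ne (Ne.symm hf) (Ne.symm hjf)]
    have hei : S.p e i = j := by
      rw [hpe, Perm.mul_apply, swap_apply_of_ne_of_ne n1 n2, swap_apply_left]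
    have hex : e * x * e⁻¹ = x⁻¹ := by
      have hz' := S.comm_conj he hx
      have hp' : S.p (e * x * e⁻¹) = S.p e * S.p x * (S.p e)⁻¹ := S.p_conj he hx
      have h3' : (e * x * e⁻¹) ^ 3 = 1 := by rw [conj_pow, hx3, mul_one, mul_inv_cancel]
      have hs3 : (S.p (e * x * e⁻¹)).support ⊆ F := fun l hl => by
        rw [hF, Finset.mem_compl, mem_support]
        intro h'
        refine mem_support.1 hl ?_
        rw [hp', Perm.mul_apply, Perm.mul_apply]
        set m := (S.p e)⁻¹ l with hm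
        have hlm : S.p e m = l := perm_apply_inv _ _
        have hcm : S.p e * σ = σ * S.p e := by
          rcases hes with h4 | h4
          · rw [hσdef, ← S.p_mul he hs, ← S.p_mul hs he, ← mul_inv_eq_iff_eq_mul.1 h4]
          · rw [hσdef, ← S.p_mul he hs, mul_inv_eq_iff_eq_mul.1 h4,
              S.p_mul (hs.mul_left (Commute.refl _)) he, S.p_mul hs (Commute.refl _), S.p_z, mul_one]
        have : σ m ≠ m := fun e' => h' (by rw [← hlm, ← Perm.mul_apply, ← hcm, Perm.mul_apply, e'])
        rw [hfix m this, hlm]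
      rcases eq_or_inv_of_three hp3 (by rw [← S.p_pow hz', h3', S.p_one]) hpx
          (fun h5 => hx1 (conj_eq_one_iff.1 (S.eq_one_of_odd hz' hodd h3' h5))) hFc hsub hs3 with h5 | h5
      · exfalso
        have h6 := Equiv.congr_fun (hp' ▸ h5) f
        have hef' : (S.p e)⁻¹ f = f := inv_eq_iff_eq.2 hef.symm
        rw [Perm.mul_apply, Perm.mul_apply, hef', ← hi, hei] at h6
        exact hff h6.symm
      · exact S.odd_lift_unique hz' hx.inv_left hodd h3' (by rw [inv_pow, hx3, inv_one]) (by rw [h5, S.p_inv hx])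
    refine ⟨e * r, ?_, ?_⟩
    · refine mul_inv_eq_iff_eq_mul.1 ?_
      rw [show e * r * x * (e * r)⁻¹ = e * (r * x * r⁻¹) * e⁻¹ by group, ← hy, hyx,
        show e * x⁻¹ * e⁻¹ = (e * x * e⁻¹)⁻¹ by group, hex, inv_inv]
    · rw [show e * r * S.z * (e * r)⁻¹ = e * (r * S.z * r⁻¹) * e⁻¹ by group, r1]
      exact hes

end Setup

end CfsgLib.AltInvolCent
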